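import Groth.Agent.QCoh.RpushExchange2
import Groth.Agent.FlatCxLib.Rank
import Mathlib.Algebra.BigOperators.Finprod

/-! The Euler characteristic of the fibres of a flat coherent module is locally constant. -/

set_option autoImplicit false
set_option linter.style.haveILetI false
set_option backward.isDefEq.respectTransparency false
set_option backward.isDefEq.respectTransparency.types false

universe u

open CategoryTheory CategoryTheory.Limits AlgebraicGeometry TopologicalSpace TensorProduct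

namespace Groth.Agent.FamEuler

open Groth.Agent

section Complex

variable {A : Type u} [CommRing A] (P : ChainComplex (ModuleCat.{u} A) ℤ)

theorem fibreRank_of_subsingleton (M : Type u) [AddCommGroup M] [Module A M] [Subsingleton M]
    (x : PrimeSpectrum A) : FlatCxLib.fibreRank M x = 0 := by
  have : Subsingleton (x.asIdeal.ResidueField ⊗[A] M) := subsingleton_of_forall_eq 0 fun t => by
    induction t using TensorProduct.induction_on with
    | zero => rfl
    | tmul a m => rw [Subsingleton.elim m 0, TensorProduct.tmul_zero]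
    | add a b ha hb => rw [ha, hb, add_zero]
  exact Module.finrank_zero_of_subsingleton

theorem fibreRank_coker_of_isZero (p : ℤ) {q : ℤ} (h : IsZero (P.X q)) (x : PrimeSpectrum A) :
    FlatCxLib.fibreRank (FlatCxLib.Coker P p q) x = 0 := by
  haveI : Subsingleton (P.X q) := ModuleCat.subsingleton_of_isZero h
  exact fibreRank_of_subsingleton _ x

/-- The alternating sums of the fibre dimensions in nonpositive degrees, corrected by a cokernel. -/
theorem isLocallyConstant_partial [IsNoetherianRing A] (hfin : ∀ i, Module.Finite A (P.X i))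
    (hflat : ∀ i, Module.Flat A (P.X i)) (hepi : (CohIII.TFun P 1).PreservesEpimorphisms) (n : ℕ) :
    IsLocallyConstant fun x : PrimeSpectrum A =>
      (∑ j ∈ Finset.range (n + 1), (-1 : ℤ) ^ j * (CohIII.dRank P (-(j : ℤ)) x : ℤ)) +
        (-1 : ℤ) ^ (n + 1) * (FlatCxLib.fibreRank (FlatCxLib.Coker P (-(n : ℤ)) (-(n : ℤ) - 1)) x : ℤ) := by
  have hrk : ∀ i, IsLocallyConstant fun x : PrimeSpectrum A => (FlatCxLib.fibreRank (P.X i) x : ℤ) := fun i => by
    haveI := hfin i
    haveI := hflat i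
    haveI : Module.FinitePresentation A (P.X i) := Module.finitePresentation_of_finite A _
    exact (FlatCxLib.isLocallyConstant_fibreRank (P.X i)).comp Nat.cast
  induction n with
  | zero =>
    haveI := hfin 0
    haveI := (FlatCxLib.preservesEpi_iff hflat (show (0 : ℤ) + 1 = 1 by norm_num)).1 hepi
    haveI : Module.FinitePresentation A (FlatCxLib.Coker P 1 0) := Module.finitePresentation_of_finite A _
    have hc : IsLocallyConstant fun x : PrimeSpectrum A => (FlatCxLib.fibreRank (FlatCxLib.Coker P 1 0) x : ℤ) :=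
      (FlatCxLib.isLocallyConstant_fibreRank _).comp Nat.cast
    convert hc.comp₂ (hrk (-1)) (fun a b => a - b) using 1
    funext x
    have h := FlatCxLib.dRank_add P hfin (show (0 : ℤ) + 1 = 1 by norm_num) (show (-1 : ℤ) + 1 = 0 by norm_num) x
    have e : ∀ q r : ℤ, q = 0 → r = -1 → FlatCxLib.fibreRank (FlatCxLib.Coker P q r) x =
        FlatCxLib.fibreRank (FlatCxLib.Coker P 0 (-1)) x := by rintro q r rfl rfl; rfl
    rw [e (-((0 : ℕ) : ℤ)) (-((0 : ℕ) : ℤ) - 1) (by simp) (by simp)]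
    simp only [Finset.sum_range_one, pow_zero, one_mul, zero_add, pow_one, Nat.cast_zero, neg_zero]
    omega
  | succ n ih =>
    convert ih.comp₂ (hrk (-(n : ℤ) - 1 - 1)) (fun a b => a + (-1 : ℤ) ^ n * b) using 1
    funext x
    have h := FlatCxLib.dRank_add P hfin (show -(n : ℤ) - 1 + 1 = -(n : ℤ) by ring)
      (show -(n : ℤ) - 1 - 1 + 1 = -(n : ℤ) - 1 by ring) x
    have e1 : -((n + 1 : ℕ) : ℤ) = -(n : ℤ) - 1 := by push_cast; ring
    rw [Finset.sum_range_succ _ (n + 1), e1]
    have h' : (CohIII.dRank P (-(n : ℤ) - 1) x : ℤ) + FlatCxLib.fibreRank (P.X (-(n : ℤ) - 1 - 1)) x =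
        (FlatCxLib.fibreRank (FlatCxLib.Coker P (-(n : ℤ)) (-(n : ℤ) - 1)) x : ℤ) +
          FlatCxLib.fibreRank (FlatCxLib.Coker P (-(n : ℤ) - 1) (-(n : ℤ) - 1 - 1)) x := by exact_mod_cast h
    simp only [pow_succ]
    linear_combination (-1 : ℤ) ^ n * -1 * h'

theorem dRank_eq_zero_of_lt (hfin : ∀ i, Module.Finite A (P.X i)) {c : ℤ} (hc : ∀ i, i < c → IsZero (P.X i))
    {q : ℤ} (hq : q < c) (x : PrimeSpectrum A) : CohIII.dRank P q x = 0 := by
  have h := FlatCxLib.dRank_add P hfin (show q + 1 = q + 1 from rfl) (show q - 1 + 1 = q by ring) x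
  rw [fibreRank_coker_of_isZero P _ (hc q hq), fibreRank_coker_of_isZero P _ (hc (q - 1) (by omega))] at h
  omega

end Complex

variable {X S : Scheme.{u}} (f : X ⟶ S) (M : X.Modules)

/-- The Euler characteristic of the fibres. -/
noncomputable def fibreEuler (y : S) : ℤ :=
  ∑ᶠ j : ℕ, (-1 : ℤ) ^ j * (CohIII.fiberRank f M j y : ℤ)

theorem isLocallyConstant_fibreEuler [IsProper f] [IsLocallyNoetherian S] [HasInjectiveResolutions X.Modules]
    (hM : Coh.IsCoh M) (hfl : FlatMod.IsFlatOver f M) : IsLocallyConstant (fibreEuler f M) := by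
  refine (IsLocallyConstant.iff_eventually_eq _).2 fun y => ?_
  obtain ⟨_, ⟨V, hV, rfl⟩, hy, -⟩ :=
    S.isBasis_affineOpens.exists_subset_of_mem_open (Set.mem_univ y) isOpen_univ
  have hV' : IsAffineOpen V := hV
  haveI : IsNoetherianRing Γ(S, V) := IsLocallyNoetherian.component_noetherian ⟨V, hV'⟩
  obtain ⟨P, hP⟩ := QCoh.exists_isLocalModel hM hfl hV'
  obtain ⟨c, hc⟩ := hP.2.2.1
  obtain ⟨n, hn⟩ : ∃ n : ℕ, -(n : ℤ) - 1 < c := ⟨(-c).toNat, by omega⟩
  have hepi : (CohIII.TFun P 1).PreservesEpimorphisms :=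
    ⟨fun {_ N} g _ => (hP.2.2.2.1 1 one_pos N).epi _⟩
  have hloc := isLocallyConstant_partial P hP.1 hP.flat hepi n
  have hGeq : ∀ x : PrimeSpectrum Γ(S, V), ((∑ j ∈ Finset.range (n + 1), (-1 : ℤ) ^ j * (CohIII.dRank P (-(j : ℤ)) x : ℤ)) +
        (-1 : ℤ) ^ (n + 1) * (FlatCxLib.fibreRank (FlatCxLib.Coker P (-(n : ℤ)) (-(n : ℤ) - 1)) x : ℤ)) =
      ∑ j ∈ Finset.range (n + 1), (-1 : ℤ) ^ j * (CohIII.dRank P (-(j : ℤ)) x : ℤ) := fun x => by
    rw [fibreRank_coker_of_isZero P _ (hc _ hn)]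
    simp
  rw [funext hGeq] at hloc
  have key : ∀ z (hz : z ∈ V), fibreEuler f M z =
      ∑ j ∈ Finset.range (n + 1), (-1 : ℤ) ^ j * (CohIII.dRank P (-(j : ℤ)) (hV'.primeIdealOf ⟨z, hz⟩) : ℤ) := by
    intro z hz
    have hd : ∀ j : ℕ, CohIII.fiberRank f M j z = CohIII.dRank P (-(j : ℤ)) (hV'.primeIdealOf ⟨z, hz⟩) :=
      fun j => (hP.2.2.2.2.2 j z hz).1
    refine (finsum_eq_sum_of_support_subset _ ?_).trans (Finset.sum_congr rfl fun j _ => by rw [hd j])
    intro j hj
    rw [Finset.coe_range, Set.mem_Iio]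
    by_contra hjn
    refine hj ?_
    show (-1 : ℤ) ^ j * (CohIII.fiberRank f M j z : ℤ) = 0
    rw [hd j, dRank_eq_zero_of_lt P hP.1 hc (by omega)]
    simp
  have hW := hV'.fromSpec.isOpenEmbedding.isOpenMap _ (hloc.isOpen_fiber (fibreEuler f M y))
  refine Filter.eventually_of_mem (hW.mem_nhds ⟨hV'.primeIdealOf ⟨y, hy⟩, (key y hy).symm,
    hV'.fromSpec_primeIdealOf ⟨y, hy⟩⟩) ?_
  rintro _ ⟨x, hx, rfl⟩
  obtain ⟨z, hz, rfl⟩ := QCoh.exists_point_fromSpec hV' x
  exact (congrArg (fibreEuler f M) (hV'.fromSpec_primeIdealOf ⟨z, hz⟩)).trans ((key z hz).trans hx)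

end Groth.Agent.FamEuler
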